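import Groth.Agent.Lib.ExtTorMap.Basic
import Groth.Agent.Lib.TorPro.Basic
import Groth.Agent.Lib.GorTor.Kill

/-!
# A map killing `Tor` in the first variable kills it in the second
-/

set_option autoImplicit false
universe u

open CategoryTheory GrothLib.FlatFP GrothLib.ExtTorMap GrothLib.TorPro TensorProduct

namespace GrothLib.TorBal

variable {R : Type u} [CommRing R]

theorem torZero_iff_of_iso {M M' N N' : ModuleCat.{u} R} (e : M ≅ N) (e' : M' ≅ N') (α : M ⟶ M') (β : N ⟶ N')
    (h : α ≫ e'.hom = e.hom ≫ β) (n : ℕ) : TorZero α n → TorZero β n := fun hα L => by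
  have hb : β = e.inv ≫ α ≫ e'.hom := by rw [h, Iso.inv_hom_id_assoc]
  rw [hb, GrothLib.ExtTorMap.torCxMap_comp, GrothLib.ExtTorMap.torCxMap_comp, HomologicalComplex.homologyMap_comp,
    HomologicalComplex.homologyMap_comp, hα L, Limits.zero_comp, Limits.comp_zero]

section swap

variable {Z Z' : Type u} [AddCommGroup Z] [Module R Z] [AddCommGroup Z'] [Module R Z']

theorem lTensor_eq_zero_aux (ψ : Z →ₗ[R] Z')
    {P P' W W' : Type u} [AddCommGroup P] [Module R P] [AddCommGroup P'] [Module R P'] [AddCommGroup W]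
    [Module R W] [AddCommGroup W'] [Module R W']
    (ι : W →ₗ[R] P) (ι' : W' →ₗ[R] P') (q : P →ₗ[R] Z) (q' : P' →ₗ[R] Z')
    (hex : Function.Exact ι q) (hι' : Function.Injective ι') (hex' : Function.Exact ι' q')
    (hq' : Function.Surjective q')
    (φP : P →ₗ[R] P') (φW : W →ₗ[R] W') (c1 : φP ∘ₗ ι = ι' ∘ₗ φW) (c2 : ψ ∘ₗ q = q' ∘ₗ φP)
    {M F L : Type u} [AddCommGroup M] [Module R M] [AddCommGroup F] [Module R F] [AddCommGroup L] [Module R L]
    [Module.Flat R F] (i : L →ₗ[R] F) (π : F →ₗ[R] M) (hπ : Function.Surjective π) (hexπ : Function.Exact i π)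
    (hψ : ∀ m : Z ⊗[R] L, i.lTensor Z m = 0 → ψ.rTensor L m = 0)
    (w : M ⊗[R] W) (hw : ι.lTensor M w = 0) : φW.lTensor M w = 0 := by
  obtain ⟨wt, rfl⟩ := LinearMap.rTensor_surjective W hπ w
  rw [← comm_apply] at hw
  obtain ⟨u, hu⟩ := (rTensor_exact P hexπ hπ _).1 hw
  have hm : i.lTensor Z ((TensorProduct.comm R L Z) (q.lTensor L u)) = 0 := by
    have h1 : i.rTensor Z (q.lTensor L u) = 0 := by
      rw [comm_apply, hu, ← LinearMap.lTensor_comp_apply, show q ∘ₗ ι = 0 from LinearMap.ext hex.apply_apply_eq_zero]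
      simp
    rw [← (TensorProduct.comm R F Z).map_eq_zero_iff] at h1
    convert h1 using 1
    generalize q.lTensor L u = x
    induction x using TensorProduct.induction_on with
    | zero => simp
    | tmul a b => simp
    | add a b ha hb => simp only [map_add, ha, hb]
  have h2 : q'.lTensor L (φP.lTensor L u) = 0 := by
    rw [← LinearMap.lTensor_comp_apply, ← c2, LinearMap.lTensor_comp_apply]
    refine (TensorProduct.comm R L Z').injective (Eq.trans ?_ (map_zero _).symm)
    refine Eq.trans ?_ (hψ _ hm)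
    generalize q.lTensor L u = x
    induction x using TensorProduct.induction_on with
    | zero => simp
    | tmul a b => simp
    | add a b ha hb => simp only [map_add, ha, hb]
  obtain ⟨v, hv⟩ := (lTensor_exact L hex' hq' _).1 h2
  have h3 : φW.lTensor F wt = i.rTensor W' v := by
    refine Module.Flat.lTensor_preserves_injective_linearMap (M := F) ι' hι' ?_
    rw [← LinearMap.lTensor_comp_apply, ← c1, LinearMap.lTensor_comp_apply, ← hu, ← comm_apply, ← hv, comm_apply]
  rw [← comm_apply, h3, ← LinearMap.rTensor_comp_apply,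
    show π ∘ₗ i = 0 from LinearMap.ext hexπ.apply_apply_eq_zero]
  simp

/-- Turn `Tor₁` vanishing in one variable into the other. -/
theorem lTensor_eq_zero (ψ : Z →ₗ[R] Z') (h : TorZero (ModuleCat.ofHom ψ) 1)
    {P P' W W' : Type u} [AddCommGroup P] [Module R P] [AddCommGroup P'] [Module R P'] [AddCommGroup W]
    [Module R W] [AddCommGroup W'] [Module R W']
    (ι : W →ₗ[R] P) (ι' : W' →ₗ[R] P') (q : P →ₗ[R] Z) (q' : P' →ₗ[R] Z')
    (hex : Function.Exact ι q)
    (hι' : Function.Injective ι') (hex' : Function.Exact ι' q') (hq' : Function.Surjective q')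
    (φP : P →ₗ[R] P') (φW : W →ₗ[R] W') (c1 : φP ∘ₗ ι = ι' ∘ₗ φW) (c2 : ψ ∘ₗ q = q' ∘ₗ φP)
    (M : Type u) [AddCommGroup M] [Module R M] (w : M ⊗[R] W) (hw : ι.lTensor M w = 0) :
    φW.lTensor M w = 0 := by
  have key : ∀ (F : Type u) [AddCommGroup F] [Module R F] [Module.Projective R F] (π : F →ₗ[R] M),
      Function.Surjective π → φW.lTensor M w = 0 := fun F _ _ _ π hπ =>
    lTensor_eq_zero_aux ψ ι ι' q q' hex hι' hex' hq' φP φW c1 c2 (F := F) (L := ↥(LinearMap.ker π))
      (LinearMap.ker π).subtype π hπ π.exact_subtype_ker_map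
      (fun m hm => GrothLib.TorFactor.rTensor_eq_zero_of_tor ψ
        (fun N _ _ => (tor_app_eq_zero_iff (ModuleCat.ofHom ψ) (ModuleCat.of R N) 1).2 (h _)) (LinearMap.ker π) m hm)
      w hw
  exact key (M →₀ R) _ (free_cover_surjective M)

end swap

section complexes

variable {C D : ChainComplex (ModuleCat.{u} R) ℕ} (φ : C ⟶ D)

/-- The image of the `j`-th differential. -/
noncomputable abbrev B (C : ChainComplex (ModuleCat.{u} R) ℕ) (j : ℕ) : Submodule R (C.X j) :=
  LinearMap.range (C.d (j + 1) j).hom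

/-- The `j`-th cokernel. -/
noncomputable abbrev Z (C : ChainComplex (ModuleCat.{u} R) ℕ) (j : ℕ) : Type u := C.X j ⧸ B C j

theorem mem_B {j : ℕ} {x : C.X j} (hx : x ∈ B C j) : (φ.f j).hom x ∈ B D j := by
  obtain ⟨y, rfl⟩ := hx
  exact ⟨(φ.f (j + 1)).hom y, by
    rw [← LinearMap.comp_apply, ← ModuleCat.hom_comp, φ.comm]; rfl⟩

/-- The map on cokernels. -/
noncomputable def zmap (j : ℕ) : Z C j →ₗ[R] Z D j :=
  Submodule.mapQ (B C j) (B D j) (φ.f j).hom fun _ hx => mem_B φ hx

/-- The next cokernel maps onto the boundaries. -/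
noncomputable def next (C : ChainComplex (ModuleCat.{u} R) ℕ) (j : ℕ) : Z C (j + 1) →ₗ[R] C.X j :=
  Submodule.liftQ _ (C.d (j + 1) j).hom (by
    rintro _ ⟨y, rfl⟩
    exact ConcreteCategory.congr_hom (C.d_comp_d (j + 1 + 1) (j + 1) j) y)

theorem next_range (C : ChainComplex (ModuleCat.{u} R) ℕ) (j : ℕ) :
    LinearMap.range (next C j) = B C j := Submodule.range_liftQ _ _ _

/-- `0 → Z (j+1) → X j → Z j → 0`. -/
noncomputable def zseq (C : ChainComplex (ModuleCat.{u} R) ℕ) (j : ℕ) : ShortComplex (ModuleCat.{u} R) :=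
  ShortComplex.mk (ModuleCat.ofHom (next C j)) (ModuleCat.ofHom (B C j).mkQ)
    (ModuleCat.hom_ext (LinearMap.ext fun x => (Submodule.Quotient.mk_eq_zero _).2
      ((next_range C j).le (LinearMap.mem_range_self _ x))))

theorem zseq_shortExact {N : ModuleCat.{u} R} (P : ProjectiveResolution N) (j : ℕ) :
    (zseq P.complex j).ShortExact :=
  { exact := (ShortComplex.ShortExact.moduleCat_exact_iff_function_exact _).2
      (LinearMap.exact_iff.2 ((Submodule.ker_mkQ _).trans (next_range P.complex j).symm))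
    mono_f := (ModuleCat.mono_iff_injective _).2 (LinearMap.ker_eq_bot.1 (by
      refine Submodule.ker_liftQ_eq_bot _ _ _ fun x hx => ?_
      have h := P.complex_exactAt_succ j
      rw [HomologicalComplex.exactAt_iff' _ (j + 2) (j + 1) j (by simp) (by simp),
        ShortComplex.moduleCat_exact_iff] at h
      exact h x hx))
    epi_g := (ModuleCat.epi_iff_surjective _).2 (Submodule.mkQ_surjective _) }

/-- The map of short exact sequences. -/
noncomputable def zseqMap (j : ℕ) : zseq C j ⟶ zseq D j :=
  ShortComplex.homMk (ModuleCat.ofHom (zmap φ (j + 1))) (φ.f j) (ModuleCat.ofHom (zmap φ j))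
    (ModuleCat.hom_ext (Submodule.linearMap_qext _ (LinearMap.ext fun x =>
      ConcreteCategory.congr_hom (φ.comm (j + 1) j) x)))
    (ModuleCat.hom_ext (LinearMap.ext fun _ => rfl))

end complexes

variable {N N' : ModuleCat.{u} R} (P : ProjectiveResolution N) (Q : ProjectiveResolution N')
  (φ : P.complex ⟶ Q.complex)

/-- The augmentation. -/
noncomputable abbrev augOf : P.complex.X 0 →ₗ[R] N := (P.π.f 0).hom

theorem torZero_zmap {α : N →ₗ[R] N'} (hφ : (augOf Q).comp (φ.f 0).hom = α.comp (augOf P)) :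
    ∀ (j n : ℕ), TorZero (ModuleCat.ofHom α) (j + n + 1) →
      TorZero (ModuleCat.ofHom (zmap φ j)) (n + 1)
  | 0, n, h => by
    have e : ∀ {M : ModuleCat.{u} R} (S : ProjectiveResolution M),
        ∃ i : ModuleCat.of R (Z S.complex 0) ≅ M, ∀ x, i.hom.hom (Submodule.Quotient.mk x) = augOf S x := by
      intro M S
      have hs : Function.Surjective (augOf S) := (ModuleCat.epi_iff_surjective (S.π.f 0)).1 inferInstance
      have hx : Function.Exact (S.complex.d 1 0).hom (augOf S) :=
        (ShortComplex.ShortExact.moduleCat_exact_iff_function_exact _).1 S.exact₀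
      refine ⟨((Submodule.quotEquivOfEq _ _ (LinearMap.exact_iff.1 hx).symm).trans
        ((augOf S).quotKerEquivOfSurjective hs)).toModuleIso, fun x => ?_⟩
      rfl
    obtain ⟨eP, hP⟩ := e P
    obtain ⟨eQ, hQ⟩ := e Q
    refine torZero_iff_of_iso eP.symm eQ.symm (ModuleCat.ofHom α) _ ?_ _ (by simpa using h)
    rw [Iso.symm_hom, Iso.symm_hom, ← cancel_epi eP.hom, Iso.hom_inv_id_assoc, ← cancel_mono eQ.hom,
      Category.assoc, Category.assoc, Iso.inv_hom_id, Category.comp_id]
    refine ModuleCat.hom_ext (Submodule.linearMap_qext _ (LinearMap.ext fun x => ?_))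
    show α (eP.hom.hom (Submodule.Quotient.mk x)) = eQ.hom.hom (Submodule.Quotient.mk ((φ.f 0).hom x))
    rw [hP, hQ]
    exact (LinearMap.congr_fun hφ x).symm
  | j + 1, n, h => by
    haveI : Projective (zseq P.complex j).X₂ := P.projective j
    haveI : Projective (zseq Q.complex j).X₂ := Q.projective j
    haveI : Module.Projective R (P.complex.X j) := (IsProjective.iff_projective _).2 (P.projective j)
    haveI : Module.Projective R (Q.complex.X j) := (IsProjective.iff_projective _).2 (Q.projective j)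
    haveI : Module.Flat R (zseq P.complex j).X₂ := inferInstanceAs (Module.Flat R (P.complex.X j))
    haveI : Module.Flat R (zseq Q.complex j).X₂ := inferInstanceAs (Module.Flat R (Q.complex.X j))
    exact (torZero_shift (zseq_shortExact P j) (zseq_shortExact Q j) (zseqMap φ j) n).1
      (torZero_zmap hφ j (n + 1) (by rwa [show j + (n + 1) + 1 = j + 1 + n + 1 by omega]))

/-- A map killing `Tor_{j+1}` kills it computed with the resolutions. -/
theorem kills_of_torZero {α : N →ₗ[R] N'} (hφ : (augOf Q).comp (φ.f 0).hom = α.comp (augOf P)) (j : ℕ)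
    (h : TorZero (ModuleCat.ofHom α) (j + 1)) (M : Type u) [AddCommGroup M] [Module R M] :
    Kills M φ j := fun z hz => by
  have h1 := torZero_zmap P Q φ hφ j 0 h
  have hS := zseq_shortExact P j
  have hS' := zseq_shortExact Q j
  have key := lTensor_eq_zero (zmap φ j) h1 (next P.complex j) (next Q.complex j) (B P.complex j).mkQ
    (B Q.complex j).mkQ ((ShortComplex.ShortExact.moduleCat_exact_iff_function_exact _).1 hS.exact)
    ((ModuleCat.mono_iff_injective _).1 hS'.mono_f)
    ((ShortComplex.ShortExact.moduleCat_exact_iff_function_exact _).1 hS'.exact) (Submodule.mkQ_surjective _)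
    (φ.f j).hom (zmap φ (j + 1))
    (Submodule.linearMap_qext _ (LinearMap.ext fun x => (ConcreteCategory.congr_hom (φ.comm (j + 1) j) x).symm))
    (LinearMap.ext fun _ => rfl) M ((B P.complex (j + 1)).mkQ.lTensor M z) (by
      rw [← LinearMap.lTensor_comp_apply, show next P.complex j ∘ₗ (B P.complex (j + 1)).mkQ =
        (P.complex.d (j + 1) j).hom from Submodule.liftQ_mkQ _ _ _]
      exact hz)
  rw [← LinearMap.lTensor_comp_apply, show zmap φ (j + 1) ∘ₗ (B P.complex (j + 1)).mkQ =
    (B Q.complex (j + 1)).mkQ ∘ₗ (φ.f (j + 1)).hom from rfl, LinearMap.lTensor_comp_apply] at key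
  exact (lTensor_exact M (LinearMap.exact_map_mkQ_range _) (Submodule.mkQ_surjective _) _).1 key

/-- A chain map killing homology after tensoring gives zero on homology. -/
theorem homologyMap_eq_zero_of_kills {C D : ChainComplex (ModuleCat.{u} R) ℕ} (φ : C ⟶ D) (M : ModuleCat.{u} R)
    (j : ℕ) (hk : Kills M φ j) :
    HomologicalComplex.homologyMap (((tensorL M).mapHomologicalComplex (ComplexShape.down ℕ)).map φ) (j + 1) = 0 := by
  let F := tensorL M
  let f := (F.mapHomologicalComplex (ComplexShape.down ℕ)).map φ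
  let C' := (F.mapHomologicalComplex (ComplexShape.down ℕ)).obj C
  let D' := (F.mapHomologicalComplex (ComplexShape.down ℕ)).obj D
  rw [← cancel_epi (C'.homologyπ (j + 1)), HomologicalComplex.homologyπ_naturality, Limits.comp_zero]
  refine ModuleCat.hom_ext (LinearMap.ext fun a => ?_)
  obtain ⟨y, hy⟩ := hk (C'.iCycles (j + 1) a) (ConcreteCategory.congr_hom (C'.iCycles_d (j + 1) j) a)
  have h1 : HomologicalComplex.cyclesMap f (j + 1) a = D'.toCycles (j + 2) (j + 1) y :=
    (ModuleCat.mono_iff_injective (D'.iCycles (j + 1))).1 inferInstance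
      ((ConcreteCategory.congr_hom (HomologicalComplex.cyclesMap_i f (j + 1)) a).trans
        (hy.symm.trans (ConcreteCategory.congr_hom (D'.toCycles_i (j + 2) (j + 1)) y).symm))
  show D'.homologyπ (j + 1) (HomologicalComplex.cyclesMap f (j + 1) a) = 0
  rw [h1]
  exact ConcreteCategory.congr_hom (D'.toCycles_comp_homologyπ (j + 2) (j + 1)) y

/-- A map killing `Tor_{j+1}` in the first variable kills it in the second. -/
theorem tor_map_eq_zero {M N N' : ModuleCat.{u} R} (α : N ⟶ N') (j : ℕ) (h : TorZero α (j + 1)) :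
    ((Tor (ModuleCat.{u} R) (j + 1)).obj M).map α = 0 := by
  let P := projectiveResolution N
  let Q := projectiveResolution N'
  let φ := ProjectiveResolution.lift α P Q
  have hφ := ProjectiveResolution.lift_commutes_zero α P Q
  have key := ProjectiveResolution.isoLeftDerivedObj_hom_naturality α P Q φ hφ (tensorL M) (j + 1)
  have h0 := homologyMap_eq_zero_of_kills φ M j
    (kills_of_torZero P Q φ (α := α.hom) (congrArg ModuleCat.Hom.hom hφ) j h M)
  rw [Functor.comp_map, show (HomologicalComplex.homologyFunctor (ModuleCat.{u} R) _ (j + 1)).map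
    (((tensorL M).mapHomologicalComplex (ComplexShape.down ℕ)).map φ) = 0 from h0, Limits.comp_zero] at key
  exact (cancel_mono (Q.isoLeftDerivedObj (tensorL M) (j + 1)).hom).1 (key.trans Limits.zero_comp.symm)

/-- A scalar killing `Tor` in the first variable kills it in the second. -/
theorem smul_eq_zero_of_forall {M N : ModuleCat.{u} R} (r : R) (j : ℕ)
    (h : ∀ (L : ModuleCat.{u} R) (y : GrothLib.GorTor.T N L (j + 1)), r • y = 0)
    (y : GrothLib.GorTor.T M N (j + 1)) : r • y = 0 := by
  let P := projectiveResolution N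
  have hT : TorZero (ModuleCat.ofHom (r • LinearMap.id : N →ₗ[R] N)) (j + 1) := fun L => by
    refine ModuleCat.hom_ext (LinearMap.ext fun z => ?_)
    refine (GrothLib.FlatCx.homologyMap_eq_smul
      ((HomologicalComplex.shortComplexFunctor _ (ComplexShape.down ℕ) (j + 1)).map
        (torCxMap (ModuleCat.ofHom (r • LinearMap.id : N →ₗ[R] N)) L)) r (fun w => ?_) z).trans (h L z)
    let X : ModuleCat.{u} R := (projectiveResolution L).complex.X (j + 1)
    have key : ∀ w : N ⊗[R] X, LinearMap.rTensor X (r • LinearMap.id : N →ₗ[R] N) w = r • w := fun w => by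
      rw [LinearMap.rTensor_smul, LinearMap.rTensor_id]
      rfl
    exact key w
  have h0 := homologyMap_eq_zero_of_kills (r • 𝟙 P.complex) M j
    (kills_of_torZero P P (r • 𝟙 P.complex) (α := r • LinearMap.id)
      (LinearMap.ext fun x => by
        rw [HomologicalComplex.smul_f_apply, HomologicalComplex.id_f]
        exact (augOf P).map_smul r x) j hT M)
  refine (GrothLib.FlatCx.homologyMap_eq_smul
    ((HomologicalComplex.shortComplexFunctor _ (ComplexShape.down ℕ) (j + 1)).map
      (((tensorL M).mapHomologicalComplex (ComplexShape.down ℕ)).map (r • 𝟙 P.complex))) r (fun w => ?_) y).symm.trans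
    (ConcreteCategory.congr_hom h0 y)
  show (LinearMap.lTensor M ((r • 𝟙 P.complex : P.complex ⟶ P.complex).f (j + 1)).hom) w = r • w
  rw [HomologicalComplex.smul_f_apply, HomologicalComplex.id_f,
    show (r • 𝟙 (P.complex.X (j + 1)) : P.complex.X (j + 1) ⟶ P.complex.X (j + 1)).hom = r • LinearMap.id from rfl,
    LinearMap.lTensor_smul, LinearMap.lTensor_id]
  rfl

end GrothLib.TorBal
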